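import Mathlib.RingTheory.Smooth.Fiber
import Mathlib.RingTheory.Smooth.Locus
import Mathlib.RingTheory.Filtration
import Mathlib.RingTheory.HopkinsLevitzki
import Mathlib.RingTheory.Kaehler.Polynomial
import Mathlib.RingTheory.Ideal.Quotient.PowTransition

/-!
# Smoothness from lifting along small extensions of Artinian local algebras
-/

set_option autoImplicit false
universe u

open TensorProduct

namespace Groth.SmallExt

variable (R A : Type u) [CommRing R] [CommRing A] [Algebra R A]

/-- Lifting of algebra maps along small extensions of Artinian local algebras of finite type. -/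
def HasSmallLifts : Prop :=
  ∀ (B' B : Type u) [CommRing B'] [CommRing B] [Algebra R B'] [Algebra R B] [IsArtinianRing B']
    [IsLocalRing B'] [IsArtinianRing B] [IsLocalRing B] [Algebra.FiniteType R B']
    (π : B' →ₐ[R] B) (t : B'),
    Function.Surjective π → RingHom.ker π = Ideal.span {t} →
    (∀ m ∈ IsLocalRing.maximalIdeal B', m * t = 0) →
    ∀ g : A →ₐ[R] B, ∃ g' : A →ₐ[R] B', π.comp g' = g

variable {R A}

theorem isLocalRing_quotient {B : Type u} [CommRing B] [IsLocalRing B] {I : Ideal B} (hI : I ≠ ⊤) :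
    IsLocalRing (B ⧸ I) :=
  have := Ideal.Quotient.nontrivial_iff.2 hI
  IsLocalRing.of_surjective' _ Ideal.Quotient.mk_surjective

/-- Lifting along extensions whose kernel is killed by the maximal ideal. -/
theorem HasSmallLifts.exists_lift (H : HasSmallLifts R A) {B' : Type u} [CommRing B'] [Algebra R B']
    [IsArtinianRing B'] [IsLocalRing B'] [Algebra.FiniteType R B'] (I : Ideal B') (hI : I ≠ ⊤)
    (hm : IsLocalRing.maximalIdeal B' * I = ⊥) (g : A →ₐ[R] B' ⧸ I) :
    ∃ g' : A →ₐ[R] B', (Ideal.Quotient.mkₐ R I).comp g' = g := by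
  let s : Set (Ideal B') := {K | ∃ hK : K ≤ I, ∃ g' : A →ₐ[R] B' ⧸ K,
    (Ideal.Quotient.factorₐ R hK).comp g' = g}
  obtain ⟨K, ⟨hK, g₁, hg₁⟩, hmin⟩ := IsArtinian.set_has_minimal s
    ⟨I, le_rfl, g, AlgHom.ext fun a => by
      obtain ⟨b, hb⟩ := Ideal.Quotient.mk_surjective (g a)
      rw [AlgHom.comp_apply, ← hb]; rfl⟩
  have hK₀ : K = ⊥ := by
    by_contra hne
    obtain ⟨K', hK', hmax⟩ := set_has_maximal_iff_noetherian.2 (inferInstance : IsNoetherianRing B')
      {K' | K' < K} ⟨⊥, bot_lt_iff_ne_bot.2 hne⟩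
    replace hK' : K' < K := hK'
    obtain ⟨t, htK, htK'⟩ := SetLike.exists_of_lt hK'
    have hKt : K' ⊔ Ideal.span {t} = K := by
      by_contra h
      refine hmax _ (lt_of_le_of_ne (sup_le hK'.le ((Ideal.span_singleton_le_iff_mem _).2 htK)) h) ?_
      exact lt_of_le_not_ge le_sup_left fun h' =>
        htK' (h' (Ideal.mem_sup_right (Ideal.mem_span_singleton_self t)))
    have hne' : K' ≠ ⊤ := fun h => not_top_lt (h ▸ hK')
    have := isLocalRing_quotient hne'
    have := isLocalRing_quotient (fun h => hI (top_le_iff.1 (h ▸ hK)) : K ≠ ⊤)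
    obtain ⟨g₂, hg₂⟩ := H (B' ⧸ K') (B' ⧸ K) (Ideal.Quotient.factorₐ R hK'.le) (Ideal.Quotient.mk K' t)
      (Ideal.Quotient.factor_surjective hK'.le) (by
        change RingHom.ker (Ideal.Quotient.factor hK'.le) = _
        rw [Ideal.Quotient.factor_ker, ← hKt, Ideal.map_sup, Ideal.map_quotient_self, bot_sup_eq,
          Ideal.map_span, Set.image_singleton])
      (fun x hx => by
        obtain ⟨x, rfl⟩ := Ideal.Quotient.mk_surjective x
        have hx' : x ∈ IsLocalRing.maximalIdeal B' := fun h => hx (h.map (Ideal.Quotient.mk K'))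
        have h0 : x * t = 0 := by
          rw [← Ideal.mem_bot, ← hm]
          exact Ideal.mul_mem_mul hx' (hK htK)
        rw [← map_mul, h0, map_zero]) g₁
    refine hmin K' ⟨hK'.le.trans hK, g₂, ?_⟩ hK'
    rw [← hg₁, ← hg₂, ← AlgHom.comp_assoc]
    congr 1
    exact Ideal.Quotient.algHom_ext R (AlgHom.ext fun b => rfl)
  subst hK₀
  let e : (B' ⧸ (⊥ : Ideal B')) ≃ₐ[R] B' := AlgEquiv.quotientBot R B'
  refine ⟨e.toAlgHom.comp g₁, ?_⟩
  rw [← hg₁, ← AlgHom.comp_assoc]
  congr 1
  exact Ideal.Quotient.algHom_ext R (AlgHom.ext fun b => rfl)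

/-- First order Taylor expansion. -/
theorem sub_eq_sum_pderiv {n : ℕ} {B : Type u} [CommRing B] [Algebra R B]
    (φ₁ φ₂ : MvPolynomial (Fin n) R →ₐ[R] B) (I : Ideal B) (hI : I * I = ⊥)
    (hX : ∀ i, φ₁ (MvPolynomial.X i) - φ₂ (MvPolynomial.X i) ∈ I) (f : MvPolynomial (Fin n) R) :
    φ₁ f - φ₂ f =
      ∑ i, φ₂ (MvPolynomial.pderiv i f) * (φ₁ (MvPolynomial.X i) - φ₂ (MvPolynomial.X i)) := by
  have hmem : ∀ f, φ₁ f - φ₂ f ∈ I := fun f => by
    induction f using MvPolynomial.induction_on with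
    | C r => simp [← MvPolynomial.algebraMap_eq]
    | add p q hp hq => simpa [add_sub_add_comm] using add_mem hp hq
    | mul_X p j hp =>
      have : φ₁ (p * MvPolynomial.X j) - φ₂ (p * MvPolynomial.X j) =
          (φ₁ p - φ₂ p) * φ₁ (MvPolynomial.X j) +
            φ₂ p * (φ₁ (MvPolynomial.X j) - φ₂ (MvPolynomial.X j)) := by
        simp only [map_mul]; ring
      rw [this]
      exact add_mem (I.mul_mem_right _ hp) (I.mul_mem_left _ (hX j))
  induction f using MvPolynomial.induction_on with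
  | C r => simp [← MvPolynomial.algebraMap_eq]
  | add p q hp hq =>
    simp only [map_add, add_mul, Finset.sum_add_distrib]
    rw [← hp, ← hq]
    ring
  | mul_X p j hp =>
    have h0 : (φ₁ p - φ₂ p) * (φ₁ (MvPolynomial.X j) - φ₂ (MvPolynomial.X j)) = 0 := by
      rw [← Ideal.mem_bot, ← hI]
      exact Ideal.mul_mem_mul (hmem p) (hX j)
    have e : φ₁ (p * MvPolynomial.X j) - φ₂ (p * MvPolynomial.X j) =
        (φ₁ p - φ₂ p) * φ₂ (MvPolynomial.X j) +
          φ₂ p * (φ₁ (MvPolynomial.X j) - φ₂ (MvPolynomial.X j)) := by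
      simp only [map_mul]; linear_combination h0
    rw [e, hp, Finset.sum_mul]
    simp only [MvPolynomial.pderiv_mul, map_add, map_mul, add_mul, Finset.sum_add_distrib]
    refine congrArg₂ (· + ·) (Finset.sum_congr rfl fun i _ => by ring) ?_
    rw [Finset.sum_eq_single j]
    · simp
    · intro i _ hi
      simp [MvPolynomial.pderiv_X_of_ne (Ne.symm hi)]
    · simp

/-- Lifting of a map vanishing on relations modulo `I`. -/
theorem HasSmallLifts.exists_lift_of_surjective (H : HasSmallLifts R A) {P : Type u} [CommRing P]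
    [Algebra R P] {B' : Type u} [CommRing B'] [Algebra R B'] [IsArtinianRing B'] [IsLocalRing B']
    [Algebra.FiniteType R B'] (I : Ideal B') (hI : I ≠ ⊤)
    (hm : IsLocalRing.maximalIdeal B' * I = ⊥) (π : P →ₐ[R] A) (hπ : Function.Surjective π)
    (q : P →ₐ[R] B') (hq : ∀ x, π x = 0 → q x ∈ I) :
    ∃ g' : A →ₐ[R] B', ∀ x, g' (π x) - q x ∈ I := by
  let Φ : P →ₐ[R] B' ⧸ I := (Ideal.Quotient.mkₐ R I).comp q
  obtain ⟨g', hg'⟩ := H.exists_lift I hI hm
    (AlgHom.liftOfSurjective π hπ Φ fun x hx => Ideal.Quotient.eq_zero_iff_mem.2 (hq x hx))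
  refine ⟨g', fun x => ?_⟩
  rw [← Ideal.Quotient.eq_zero_iff_mem, map_sub, sub_eq_zero]
  have := congr(($hg') (π x))
  exact this.trans (AlgHom.liftOfSurjective_apply π hπ Φ _ x)

/-- The key step: relations with vanishing differential at a maximal ideal lie in `M * J`. -/
theorem mem_mul_of_pderiv_mem [IsNoetherianRing R] (H : HasSmallLifts R A) {n : ℕ}
    (π : MvPolynomial (Fin n) R →ₐ[R] A) (hπ : Function.Surjective π)
    (M : Ideal (MvPolynomial (Fin n) R)) [hM : M.IsMaximal] (hJM : RingHom.ker π ≤ M)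
    {f : MvPolynomial (Fin n) R} (hf : f ∈ RingHom.ker π)
    (hd : ∀ i, MvPolynomial.pderiv i f ∈ M) : f ∈ M * RingHom.ker π := by
  let J : Ideal (MvPolynomial (Fin n) R) := RingHom.ker π
  obtain ⟨k, hk⟩ := Ideal.exists_pow_inf_eq_pow_smul M J
  have hAR : M ^ (k + 1) ⊓ J ≤ M * J := by
    have h1 := hk (k + 1) (Nat.le_succ k)
    simp only [smul_eq_mul, Ideal.mul_top, add_tsub_cancel_left, pow_one] at h1
    rw [h1]
    exact Ideal.mul_mono_right inf_le_right
  let K := M * J ⊔ M ^ (k + 1)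
  have hKM : K ≤ M := sup_le Ideal.mul_le_left (Ideal.pow_le_self (Nat.succ_ne_zero k))
  have hKpow : M ^ (k + 1) ≤ K := le_sup_right
  let q := Ideal.Quotient.mkₐ R K
  have hq : Function.Surjective q := Ideal.Quotient.mk_surjective
  have hmax : ∀ N : Ideal (MvPolynomial (Fin n) R ⧸ K), N.IsPrime → N = M.map (Ideal.Quotient.mk K) := by
    intro N hN
    have h1 : M ≤ N.comap (Ideal.Quotient.mk K) :=
      (Ideal.IsPrime.pow_le_iff (Nat.succ_ne_zero k)).1
        (hKpow.trans fun x hx => by simp [Ideal.mem_comap, Ideal.Quotient.eq_zero_iff_mem.2 hx])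
    rw [hM.eq_of_le (Ideal.IsPrime.ne_top inferInstance) h1,
      Ideal.map_comap_of_surjective _ Ideal.Quotient.mk_surjective]
  have : Nontrivial (MvPolynomial (Fin n) R ⧸ K) :=
    Ideal.Quotient.nontrivial_iff.2 fun h => hM.ne_top (top_le_iff.1 (h ▸ hKM))
  obtain ⟨N₀, hN₀⟩ := Ideal.exists_maximal (MvPolynomial (Fin n) R ⧸ K)
  have : IsLocalRing (MvPolynomial (Fin n) R ⧸ K) := IsLocalRing.of_unique_max_ideal
    ⟨N₀, hN₀, fun N hN => (hmax N hN.isPrime).trans (hmax N₀ hN₀.isPrime).symm⟩
  have hmaxIdeal : IsLocalRing.maximalIdeal (MvPolynomial (Fin n) R ⧸ K) =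
      M.map (Ideal.Quotient.mk K) := hmax _ inferInstance
  have : IsArtinianRing (MvPolynomial (Fin n) R ⧸ K) := by
    rw [isArtinianRing_iff_isNilpotent_maximalIdeal]
    refine ⟨k + 1, ?_⟩
    rw [hmaxIdeal, ← Ideal.map_pow, Ideal.zero_eq_bot, Ideal.map_eq_bot_iff_le_ker, Ideal.mk_ker]
    exact hKpow
  let I : Ideal (MvPolynomial (Fin n) R ⧸ K) := (J ⊔ M ^ (k + 1)).map (Ideal.Quotient.mk K)
  have hIM : I ≤ M.map (Ideal.Quotient.mk K) :=
    Ideal.map_mono (sup_le hJM (Ideal.pow_le_self (Nat.succ_ne_zero k)))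
  have hmI : IsLocalRing.maximalIdeal _ * I = ⊥ := by
    rw [hmaxIdeal, ← Ideal.map_mul, Ideal.map_eq_bot_iff_le_ker, Ideal.mk_ker, Ideal.mul_sup]
    exact sup_le le_sup_left ((Ideal.mul_le_right).trans le_sup_right)
  have hI : I ≠ ⊤ := fun h => (IsLocalRing.maximalIdeal.isMaximal _).ne_top
    (top_le_iff.1 (h ▸ hmaxIdeal ▸ hIM))
  have hFT : Algebra.FiniteType R (MvPolynomial (Fin n) R ⧸ K) :=
    Algebra.FiniteType.of_surjective q hq
  obtain ⟨g', hg'⟩ := H.exists_lift_of_surjective I hI hmI π hπ q fun x hx =>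
    Ideal.mem_map_of_mem _ (Ideal.mem_sup_left (RingHom.mem_ker.2 hx))
  have hX : ∀ i, (g'.comp π) (MvPolynomial.X i) - q (MvPolynomial.X i) ∈ I := fun i => hg' _
  have hII : I * I = ⊥ := le_bot_iff.1
    ((Ideal.mul_mono_left (hmaxIdeal ▸ hIM)).trans hmI.le)
  have key := sub_eq_sum_pderiv (g'.comp π) q I hII hX f
  rw [Finset.sum_eq_zero fun i _ => ?_, AlgHom.comp_apply, RingHom.mem_ker.1 hf, map_zero, zero_sub,
    neg_eq_zero] at key
  · obtain ⟨a, ha, b, hb, rfl⟩ := Submodule.mem_sup.1 (Ideal.Quotient.eq_zero_iff_mem.1 key)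
    have hbJ : b ∈ J := by
      have := J.sub_mem hf (Ideal.mul_le_right (I := M) ha)
      rwa [add_sub_cancel_left] at this
    exact add_mem ha (hAR ⟨hb, hbJ⟩)
  · rw [← Ideal.mem_bot, ← hmI, hmaxIdeal]
    exact Ideal.mul_mem_mul (Ideal.mem_map_of_mem _ (hd i)) (hX i)

open IsLocalRing in
/-- Lifting along small extensions gives smoothness at maximal ideals. -/
theorem HasSmallLifts.isSmoothAt [IsNoetherianRing R] [Algebra.FiniteType R A]
    (H : HasSmallLifts R A) (m : Ideal A) [hm : m.IsMaximal] : Algebra.IsSmoothAt R m := by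
  obtain ⟨n, π, hπ⟩ := Algebra.FiniteType.iff_quotient_mvPolynomial''.mp
    (inferInstance : Algebra.FiniteType R A)
  let M : Ideal (MvPolynomial (Fin n) R) := m.comap π
  have hMmax : M.IsMaximal := Ideal.comap_isMaximal_of_surjective π hπ
  have hJM : RingHom.ker π ≤ M := fun x hx => by
    rw [Ideal.mem_comap, RingHom.mem_ker.1 hx]; exact m.zero_mem
  let P := Localization.AtPrime M
  let S := Localization.AtPrime m
  let fP : P →ₐ[R] S := IsLocalization.liftAlgHom (M := M.primeCompl)
      (f := (IsScalarTower.toAlgHom R A S).comp π) fun x => by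
    simpa using IsLocalization.map_units (M := m.primeCompl) S ⟨π x.1, x.2⟩
  have hfP : ∀ x, fP (algebraMap _ P x) = algebraMap A S (π x) := fun x => by
    simp [fP]
  have h₁ : Function.Surjective fP := by
    intro x
    obtain ⟨x, ⟨s, hs⟩, rfl⟩ := IsLocalization.exists_mk'_eq m.primeCompl x
    obtain ⟨x, rfl⟩ := hπ x
    obtain ⟨s, rfl⟩ := hπ s
    refine ⟨IsLocalization.mk' (M := M.primeCompl) _ x ⟨s, hs⟩, ?_⟩
    simp [fP, IsLocalization.lift_mk', Units.mul_inv_eq_iff_eq_mul, IsUnit.liftRight]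
  algebraize [fP.toRingHom]
  have : IsScalarTower R P S := .of_algebraMap_eq fun r => (fP.commutes r).symm
  have : Algebra.FormallyEtale (MvPolynomial (Fin n) R) P := .of_isLocalization M.primeCompl
  have : Algebra.FormallySmooth R P := .comp _ (MvPolynomial (Fin n) R) _
  let e := KaehlerDifferential.tensorKaehlerEquivOfFormallyEtale R (MvPolynomial (Fin n) R) P
  have : Module.Free P Ω[P⁄R] := .of_equiv e
  have : Module.Finite P Ω[P⁄R] := .equiv e
  have : IsNoetherianRing P := IsLocalization.isNoetherianRing M.primeCompl _ inferInstance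
  change Algebra.FormallySmooth R S
  rw [Algebra.FormallySmooth.iff_injective_cotangentComplexBaseChange_residueField P h₁
    (IsNoetherian.noetherian _), injective_iff_map_eq_zero]
  intro x hx
  obtain ⟨f', rfl⟩ := TensorProduct.mk_surjective P _ (ResidueField S)
    ((IsLocalRing.residue_surjective).comp h₁) x
  obtain ⟨p, ⟨s, hs⟩, hps⟩ := IsLocalization.exists_mk'_eq M.primeCompl f'.1
  have hspec : f'.1 * algebraMap _ P s = algebraMap _ P p := by rw [← hps, IsLocalization.mk'_spec]
  obtain ⟨⟨a, ha⟩, ha0⟩ : ∃ a : m.primeCompl, ↑a * π p = 0 := by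
    refine (IsLocalization.map_eq_zero_iff m.primeCompl S _).1 ?_
    rw [← hfP, ← hspec, map_mul]
    exact mul_eq_zero_of_left (RingHom.mem_ker.1 f'.2) _
  obtain ⟨a, rfl⟩ := hπ a
  let f₀ := a * p
  have hf₀ : f₀ ∈ RingHom.ker π := by rw [RingHom.mem_ker, map_mul]; exact ha0
  let c : P := algebraMap _ P (a * s)
  have hc : IsUnit c := IsLocalization.map_units (M := M.primeCompl) P
    ⟨a * s, M.primeCompl.mul_mem (fun h => ha h) hs⟩
  let j₀ : RingHom.ker (algebraMap P S) := ⟨algebraMap _ P f₀, by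
    rw [RingHom.mem_ker]; exact (hfP f₀).trans (by rw [RingHom.mem_ker.1 hf₀, map_zero])⟩
  have hj : c • f' = j₀ := Subtype.ext <| by
    change c * f'.1 = algebraMap _ P (a * p)
    simp only [c, map_mul]
    rw [mul_assoc, mul_comm (algebraMap _ P s), hspec]
  have hres : (1 : ResidueField S) ⊗ₜ[P] f' = hc.unit⁻¹.1 • ((1 : ResidueField S) ⊗ₜ[P] j₀) := by
    rw [← tmul_smul, ← hj, smul_smul, IsUnit.val_inv_mul, one_smul]
  have h0 : (1 : ResidueField S) ⊗ₜ[P] KaehlerDifferential.D R P (algebraMap _ P f₀) = 0 := by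
    have e1 : KaehlerDifferential.cotangentComplexBaseChange R S P (ResidueField S)
        ((1 : ResidueField S) ⊗ₜ[P] j₀) =
        (1 : ResidueField S) ⊗ₜ[P] KaehlerDifferential.D R P (algebraMap _ P f₀) := by
      rw [KaehlerDifferential.cotangentComplexBaseChange_tmul, one_smul]
      rfl
    rw [← e1, ← hj, tmul_smul, ← algebraMap_smul (ResidueField S) c, map_smul]
    change algebraMap P (ResidueField S) c • _ = _
    erw [hx, smul_zero]
  have hkey : ∀ y : MvPolynomial (Fin n) R,
      algebraMap P (ResidueField S) (algebraMap _ P y) = 0 → y ∈ M := by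
    intro y hy
    by_contra h
    exact ((IsLocalization.map_units (M := M.primeCompl) P ⟨y, h⟩).map
      (algebraMap P (ResidueField S))).ne_zero hy
  have hd : ∀ i, MvPolynomial.pderiv i f₀ ∈ M := by
    intro i
    let E : Ω[P⁄R] →ₗ[P] ResidueField S :=
      (Algebra.linearMap P (ResidueField S)).comp
        ((LinearMap.liftBaseChange P ((Algebra.linearMap (MvPolynomial (Fin n) R) P).comp
          ((KaehlerDifferential.mvPolynomialBasis R (Fin n)).coord i))).comp e.symm.toLinearMap)
    have hE : E (KaehlerDifferential.D R P (algebraMap _ P f₀)) =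
        algebraMap P (ResidueField S) (algebraMap _ P (MvPolynomial.pderiv i f₀)) := by
      have : e.symm (KaehlerDifferential.D R P (algebraMap _ P f₀)) =
          (1 : P) ⊗ₜ KaehlerDifferential.D R (MvPolynomial (Fin n) R) f₀ :=
        e.symm_apply_eq.2 (by simp [e]; exact (one_smul P (KaehlerDifferential.D R P (algebraMap (MvPolynomial (Fin n) R) P f₀))).symm)
      simp [E, this, Module.Basis.coord_apply, KaehlerDifferential.mvPolynomialBasis_repr_apply]
    refine hkey _ ?_
    have := congrArg (LinearMap.liftBaseChange (ResidueField S) E) h0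
    rwa [LinearMap.liftBaseChange_tmul, one_smul, map_zero, hE] at this
  have hmem := mem_mul_of_pderiv_mem H π hπ M hJM hf₀ hd
  have hz : (1 : ResidueField S) ⊗ₜ[P] j₀ = 0 := by
    have : ∀ y (hy : y ∈ M * RingHom.ker π), ∀ (h : algebraMap _ P y ∈ RingHom.ker (algebraMap P S)),
        (1 : ResidueField S) ⊗ₜ[P] (⟨algebraMap _ P y, h⟩ : RingHom.ker (algebraMap P S)) = 0 := by
      intro y hy
      induction hy using Submodule.mul_induction_on' with
      | mem_mul_mem b hb j hj' =>
        intro h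
        have hj'' : algebraMap _ P j ∈ RingHom.ker (algebraMap P S) := by
          rw [RingHom.mem_ker]; exact (hfP j).trans (by rw [RingHom.mem_ker.1 hj', map_zero])
        have e2 : (⟨algebraMap _ P (b * j), h⟩ : RingHom.ker (algebraMap P S)) =
            algebraMap _ P b • (⟨algebraMap _ P j, hj''⟩ : RingHom.ker (algebraMap P S)) :=
          Subtype.ext (map_mul _ _ _)
        have hb0 : algebraMap P (ResidueField S) (algebraMap _ P b) = 0 := by
          rw [IsScalarTower.algebraMap_apply P S (ResidueField S)]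
          refine (IsLocalRing.residue_eq_zero_iff _).2 ?_
          change fP (algebraMap _ P b) ∈ _
          rw [hfP]
          exact (IsLocalization.AtPrime.to_map_mem_maximal_iff S m (π b)).2 hb
        rw [e2, tmul_smul, ← algebraMap_smul (ResidueField S), hb0, zero_smul]
      | add y hy z hz iy iz =>
        intro h
        have hmem : ∀ w ∈ M * RingHom.ker π, algebraMap _ P w ∈ RingHom.ker (algebraMap P S) :=
          fun w hw => by
            rw [RingHom.mem_ker]
            exact (hfP w).trans (by rw [RingHom.mem_ker.1 (Ideal.mul_le_right hw), map_zero])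
        have e3 : (⟨algebraMap _ P (y + z), h⟩ : RingHom.ker (algebraMap P S)) =
            ⟨algebraMap _ P y, hmem y hy⟩ + ⟨algebraMap _ P z, hmem z hz⟩ :=
          Subtype.ext (map_add _ _ _)
        rw [e3, tmul_add, iy, iz, add_zero]
    exact this f₀ hmem _
  change (1 : ResidueField S) ⊗ₜ[P] f' = 0
  rw [hres, hz, smul_zero]

/-- Lifting along small extensions gives smoothness. -/
theorem HasSmallLifts.smooth [IsNoetherianRing R] [Algebra.FiniteType R A]
    (H : HasSmallLifts R A) : Algebra.Smooth R A := by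
  have : Algebra.FinitePresentation R A := Algebra.FinitePresentation.of_finiteType.1 inferInstance
  refine ⟨Algebra.smoothLocus_eq_univ_iff.1 (Set.eq_univ_iff_forall.2 fun p => ?_), inferInstance⟩
  by_contra hp
  obtain ⟨x, hx, hxc⟩ :=
    IsClosed.exists_closed_singleton (Algebra.isOpen_smoothLocus (R := R) (A := A)).isClosed_compl
      ⟨p, hp⟩
  have := (PrimeSpectrum.isClosed_singleton_iff_isMaximal x).1 hxc
  exact hx (H.isSmoothAt x.asIdeal)

end Groth.SmallExt
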