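import Groth.Agent.SmallExt.Algebra
import Groth.Agent.FlatmorThree.SmoothLift

/-!
# Smooth morphisms of schemes and lifting along small extensions
-/

set_option autoImplicit false
set_option backward.isDefEq.respectTransparency.types false
universe u

open CategoryTheory CategoryTheory.Limits AlgebraicGeometry

namespace Groth.SmallExt

noncomputable section

variable {X S : Scheme.{u}}

/-- Smooth morphisms lift along small extensions. -/
theorem exists_lift_of_isFormallySmoothHom (f : X ⟶ S) (hf : MoreMor.IsFormallySmoothHom f)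
    {B B' : Type u} [CommRing B] [CommRing B'] [Nontrivial B] [IsLocalRing B'] (φ : B' →+* B) (t : B')
    (hφ : Function.Surjective φ) (hker : RingHom.ker φ = Ideal.span {t})
    (ht : ∀ m ∈ IsLocalRing.maximalIdeal B', m * t = 0)
    (α : Spec (CommRingCat.of B) ⟶ X) (β : Spec (CommRingCat.of B') ⟶ S)
    (w : Spec.map (CommRingCat.ofHom φ) ≫ β = α ≫ f) :
    ∃ γ : Spec (CommRingCat.of B') ⟶ X, Spec.map (CommRingCat.ofHom φ) ≫ γ = α ∧ γ ≫ f = β := by
  let I := RingHom.ker φ
  have htm : t ∈ IsLocalRing.maximalIdeal B' := IsLocalRing.le_maximalIdeal (RingHom.ker_ne_top φ)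
    (hker ▸ Ideal.mem_span_singleton_self t)
  have hI : I ^ 2 = ⊥ := by
    rw [pow_two, show I = Ideal.span {t} from hker, Ideal.span_singleton_mul_span_singleton,
      ht t htm, Ideal.span_singleton_eq_bot]
  let e := RingHom.quotientKerEquivOfSurjective hφ
  let a : Spec (CommRingCat.of (B' ⧸ I)) ⟶ X := Spec.map (CommRingCat.ofHom e.symm.toRingHom) ≫ α
  have e₁ : CommRingCat.ofHom φ ≫ CommRingCat.ofHom e.symm.toRingHom =
      CommRingCat.ofHom (Ideal.Quotient.mk I) := by
    ext x
    exact e.symm_apply_apply (Ideal.Quotient.mk I x)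
  have e₂ : CommRingCat.ofHom (Ideal.Quotient.mk I) ≫ CommRingCat.ofHom e.toRingHom =
      CommRingCat.ofHom φ := by
    ext x
    rfl
  have e₃ : CommRingCat.ofHom e.symm.toRingHom ≫ CommRingCat.ofHom e.toRingHom = 𝟙 _ := by
    ext x
    exact e.apply_symm_apply x
  obtain ⟨γ, hγ₁, hγ₂⟩ := hf B' I hI a β (by rw [← e₁, Spec.map_comp, Category.assoc, w, Category.assoc])
  refine ⟨γ, ?_, hγ₂⟩
  rw [← e₂, Spec.map_comp, Category.assoc, hγ₁, ← Spec.map_comp_assoc, e₃, Spec.map_id,
    Category.id_comp]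

/-- Lifting along small extensions for a morphism of schemes. -/
def HasSmallLiftsHom (f : X ⟶ S) : Prop :=
  ∀ (B' B : Type u) [CommRing B'] [CommRing B] [IsArtinianRing B'] [IsArtinianRing B] [IsLocalRing B']
    [IsLocalRing B] (φ : B' →+* B) (t : B'), Function.Surjective φ → RingHom.ker φ = Ideal.span {t} →
    (∀ m ∈ IsLocalRing.maximalIdeal B', m * t = 0) →
    ∀ (α : Spec (CommRingCat.of B) ⟶ X) (β : Spec (CommRingCat.of B') ⟶ S), LocallyOfFiniteType β →
      Spec.map (CommRingCat.ofHom φ) ≫ β = α ≫ f →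
      ∃ γ : Spec (CommRingCat.of B') ⟶ X, Spec.map (CommRingCat.ofHom φ) ≫ γ = α ∧ γ ≫ f = β

theorem smooth_of_hasSmallLiftsHom (f : X ⟶ S) [IsLocallyNoetherian S] [LocallyOfFiniteType f]
    (H : HasSmallLiftsHom f) : Smooth f := by
  rw [HasRingHomProperty.iff_appLE (P := @Smooth)]
  intro U V e
  let φ := f.appLE U V e
  have : IsNoetherianRing Γ(S, U.1) := IsLocallyNoetherian.component_noetherian U
  have hft : φ.hom.FiniteType := HasRingHomProperty.appLE (P := @LocallyOfFiniteType) f inferInstance U V e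
  algebraize [φ.hom]
  refine HasSmallLifts.smooth fun B' B _ _ _ _ _ _ _ _ hB π t hπ hker ht g => ?_
  let α := Spec.map (CommRingCat.ofHom g.toRingHom) ≫ V.2.fromSpec
  let β : Spec (CommRingCat.of B') ⟶ S :=
    Spec.map (CommRingCat.ofHom (algebraMap Γ(S, U.1) B')) ≫ U.2.fromSpec
  have hβ : LocallyOfFiniteType β :=
    have : LocallyOfFiniteType (Spec.map (CommRingCat.ofHom (algebraMap Γ(S, U.1) B'))) :=
      (HasRingHomProperty.Spec_iff (P := @LocallyOfFiniteType)).2
        (RingHom.finiteType_algebraMap.2 hB)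
    inferInstance
  have hπc : CommRingCat.ofHom (algebraMap Γ(S, U.1) B') ≫ CommRingCat.ofHom π.toRingHom =
      φ ≫ CommRingCat.ofHom g.toRingHom := by
    ext x
    exact (π.commutes x).trans (g.commutes x).symm
  obtain ⟨γ, hγ₁, hγ₂⟩ := H B' B π.toRingHom t hπ hker ht α β hβ (by
    rw [← Spec.map_comp_assoc, hπc, Spec.map_comp, Category.assoc,
      IsAffineOpen.SpecMap_appLE_fromSpec, Category.assoc])
  -- the lift lands in the affine open
  have hrange : Set.range γ ⊆ Set.range V.2.fromSpec := by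
    rintro _ ⟨p, rfl⟩
    have hsub : ∀ a b : PrimeSpectrum B', a = b := fun a b => PrimeSpectrum.ext <| by
      rw [IsLocalRing.eq_maximalIdeal (IsArtinianRing.isMaximal_of_isPrime a.asIdeal),
        IsLocalRing.eq_maximalIdeal (IsArtinianRing.isMaximal_of_isPrime b.asIdeal)]
    have : p = Spec.map (CommRingCat.ofHom π.toRingHom) (IsLocalRing.closedPoint B) := hsub _ _
    rw [this, ← Scheme.Hom.comp_apply, hγ₁, Scheme.Hom.comp_apply]
    exact ⟨_, rfl⟩
  let γ' := IsOpenImmersion.lift V.2.fromSpec γ hrange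
  obtain ⟨g', hg'⟩ := Spec.map_surjective γ'
  have hγ' : γ' ≫ V.2.fromSpec = γ := IsOpenImmersion.lift_fac _ _ _
  have h1 : g' ≫ CommRingCat.ofHom π.toRingHom = CommRingCat.ofHom g.toRingHom := by
    refine Spec.map_injective ((cancel_mono V.2.fromSpec).1 ?_)
    rw [Spec.map_comp, Category.assoc, hg', hγ', hγ₁]
  have h2 : φ ≫ g' = CommRingCat.ofHom (algebraMap Γ(S, U.1) B') := by
    refine Spec.map_injective ((cancel_mono U.2.fromSpec).1 ?_)
    rw [Spec.map_comp, Category.assoc, IsAffineOpen.SpecMap_appLE_fromSpec f U.2 V.2 e,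
      ← Category.assoc, hg', hγ', hγ₂]
  exact ⟨{ g'.hom with commutes' := fun r => congr(($h2).hom r) },
    AlgHom.ext fun x => congr(($h1).hom x)⟩

theorem smooth_iff (f : X ⟶ S) [IsLocallyNoetherian S] [LocallyOfFiniteType f] :
    Smooth f ↔ HasSmallLiftsHom f :=
  ⟨fun _ _ _ _ _ _ _ _ _ φ t hφ hker ht α β _ w => exists_lift_of_isFormallySmoothHom f
    (Groth.FlatmorThree.SmoothLift.isFormallySmoothHom_of_smooth f) φ t hφ hker ht α β w,
    smooth_of_hasSmallLiftsHom f⟩

end

end Groth.SmallExt
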